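import Mathlib.RingTheory.GradedAlgebra.Basic
import Mathlib.Algebra.GradedMulAction
import Mathlib.Algebra.Module.GradedModule

/-!
# Components of a scalar multiple in a graded module
-/

set_option autoImplicit false
universe u

namespace K990.GrNak

open DirectSum

/-- The component of degree `j` of `r • x`. -/
theorem coe_decompose_smul {ι : Type*} [DecidableEq ι] [AddMonoid ι] {R : Type*} [Semiring R]
    {σ : Type*} [SetLike σ R] [AddSubmonoidClass σ R]
    (𝒜 : ι → σ) [GradedRing 𝒜]
    {M : Type*} [AddCommMonoid M] [Module R M] {τ : Type*} [SetLike τ M] [AddSubmonoidClass τ M]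
    (ℳ : ι → τ) [DirectSum.Decomposition ℳ] [SetLike.GradedSMul 𝒜 ℳ]
    [∀ (i) (x : 𝒜 i), Decidable (x ≠ 0)] [∀ (i) (x : ℳ i), Decidable (x ≠ 0)]
    (r : R) (x : M) (j : ι) :
    (decompose ℳ (r • x) j : M) =
      ∑ a ∈ (decompose 𝒜 r).support, ∑ b ∈ (decompose ℳ x).support,
        if a + b = j then (decompose 𝒜 r a : R) • (decompose ℳ x b : M) else 0 := by
  conv_lhs => rw [← sum_support_decompose 𝒜 r, ← sum_support_decompose ℳ x]
  rw [Finset.sum_smul]
  simp_rw [Finset.smul_sum]
  rw [decompose_sum, DFinsupp.finsetSum_apply, AddSubmonoidClass.coe_finsetSum]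
  refine Finset.sum_congr rfl fun a _ => ?_
  rw [decompose_sum, DFinsupp.finsetSum_apply, AddSubmonoidClass.coe_finsetSum]
  refine Finset.sum_congr rfl fun b _ => ?_
  have hmem : (decompose 𝒜 r a : R) • (decompose ℳ x b : M) ∈ ℳ (a + b) :=
    SetLike.GradedSMul.smul_mem (decompose 𝒜 r a).2 (decompose ℳ x b).2
  split_ifs with h
  · subst h
    exact decompose_of_mem_same ℳ hmem
  · exact decompose_of_mem_ne ℳ hmem h

end K990.GrNak
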